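import Mathlib
import Cfsg.Prelude.Def_GeometricClasses
import Cfsg.Agent.Lib.helper15.S5972.Defs
import Cfsg.Agent.Lib.Helper16.OCnt2

set_option autoImplicit false

/-!
# Project OTS (designer helper13): definitions for S5973 + S5987.
`Ω⁺_{2d}(q)` / `Ω⁻_{2d}(q)`, ALL `q` (also even), on the totally singular `m`-spaces: elements of prime order.

Everything is phrased with a Mathlib quadratic form `Q : QuadraticForm F V` (so that characteristic `2` is covered);
`qB Q = QuadraticMap.polarBilin Q` is its polar form.  Vocabulary reused: helper13's S5955 (`STI`, `SND`, `SOrth`, `SInv`, `fixS`, `cycS`,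
`SCtx`, `stdB`), helper15's S5972 (`OCtx`), helper16's counting type `Cfsg.Agent.Lib.Helper16.OSemi.IsType f m s`
(`q · #{f = 0} = q^(2m) + s (q^(m+1) - q^m)`, characteristic free).
-/

namespace Cfsg.Agent.Lib.Helper13.OTS

open Polynomial Module Cfsg.Agent.Lib.Helper13.S5955 Cfsg.Agent.Lib.helper15.S5972

variable {F : Type*} [Field F] {V : Type*} [AddCommGroup V] [Module F V]

/-- the polar form of `Q` as a Mathlib bilinear form -/
noncomputable abbrev qB (Q : QuadraticForm F V) : LinearMap.BilinForm F V := QuadraticMap.polarBilin Q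

/-- the abstract quadratic context: the polar form of `Q` is non-degenerate, `x` preserves `Q`, `x ^ r = 1` -/
structure QCtx (r : ℕ) (Q : QuadraticForm F V) (x : Module.End F V) : Prop where
  nd : ∀ u, (∀ v, QuadraticMap.polar Q u v = 0) → u = 0
  pres : ∀ v, Q (x v) = Q v
  pow : x ^ r = 1

/-- `W` is totally singular: `Q` vanishes on `W` -/
def QTS (Q : QuadraticForm F V) (W : Submodule F V) : Prop := ∀ w ∈ W, Q w = 0

/-- the counting type of `Q` on `W` (`s = 1`: hyperbolic, `s = -1`: elliptic), for `W` of even dimension -/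
def QTy [Fintype F] (Q : QuadraticForm F V) (W : Submodule F V) (s : ℤ) : Prop :=
  Cfsg.Agent.Lib.Helper16.OSemi.IsType (fun w : ↥W => Q (w : V)) (finrank F W / 2) s

/-- `m` is the dimension of some `x`-invariant totally singular subspace -/
def QTd (Q : QuadraticForm F V) (x : Module.End F V) (m : ℕ) : Prop :=
  ∃ W : Submodule F V, SInv x W ∧ QTS Q W ∧ finrank F W = m

/-- a standard quadratic space in coordinates: non-degenerate, of dimension `2d` and type `ε`.
Instances: `qfPlus d F` (`ε = 1`, S5973), `qfMinus (d-1) F a b` (`ε = -1`, S5987). -/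
structure QStd [Fintype F] {ι : Type} [Fintype ι] [DecidableEq ι] (Qs : QuadraticForm F (ι → F)) (d : ℕ)
    (ε : ℤ) : Prop where
  nd : (QuadraticMap.polarBilin Qs).Nondegenerate
  card : Fintype.card ι = 2 * d
  ty : Cfsg.Agent.Lib.Helper16.OSemi.IsType (⇑Qs) d ε
  eps : ε = 1 ∨ ε = -1

/-- the totally singular `m`-spaces of a quadratic space in coordinates, as in the frozen statements -/
abbrev TSq {ι : Type} [Fintype ι] [DecidableEq ι] (Qs : QuadraticForm F (ι → F)) (m : ℕ) : Type _ :=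
  {W : Submodule F (ι → F) // Module.finrank F ↥W = m ∧ ∀ w ∈ W, Qs w = 0}

/-- the smallest possible dimension of the fixed space of an isometry of order `r` of a `2d`-space of type `ε`
(`i = ord_r q`, `c = i` or `2i`): `(2d) % c`, except that a fixed-point-free element must have the type of the space -/
def FMin (i c d : ℕ) (ε : ℤ) : ℕ :=
  if (2 * d) % c = 0 ∧ ¬ (ε = 1 ↔ (Odd i ∨ Even ((2 * d) / i))) then c else (2 * d) % c

/-- the arithmetic condition common to S5973 (`ε = 1`) and S5987 (`ε = -1`), `n = 2d`, `t = (r-1)/i` -/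
def TSC (i c d m t : ℕ) (ε : ℤ) : Prop :=
  i ≤ m ∧
  ((Odd i ∧ ((ε = 1 ∧ 2 * (m % i) ≤ (2 * d) % c) ∨
      (ε = -1 ∧ ((2 * d) % c = 0 ∨ 2 * (m % i) < (2 * d) % c)))) ∨
   (Even i ∧ t + 2 * (m / i) ≤ (2 * d) / i ∧
     ((2 * (m % i) ≤ i ∧ (2 * d) % c = 0 ∧ (ε = 1 ↔ Odd ((2 * d) / i)) ∧ t + 2 * (m / i) < (2 * d) / i) ∨
      (2 * (m % i) ≤ (2 * d) % c ∧ (ε = 1 ↔ Even ((2 * d) / i))) ∨
      (2 * (m % i) < (2 * d) % c ∧ (ε = 1 ↔ Odd ((2 * d) / i))))))

/-- the divisibility coming from the count of totally singular `m`-spaces: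
`r ∣ (q^(d-j) - ε)(q^(d-1-j) + ε)` for some `j < m` -/
def HJ (q r d m : ℕ) (ε : ℤ) : Prop :=
  ∃ j : ℕ, j < m ∧ (r : ℤ) ∣ ((q : ℤ) ^ (d - j) - ε) * ((q : ℤ) ^ (d - 1 - j) + ε)

/-- `HJ` in terms of `i = ord_r q` (`r` odd): `r ∣ q^e - 1 ↔ i ∣ e`, `r ∣ q^e + 1 ↔ Even i ∧ e % i = i / 2` -/
def HJi (i d m : ℕ) (ε : ℤ) : Prop :=
  ∃ j : ℕ, j < m ∧
    ((ε = 1 ∧ (i ∣ d - j ∨ (Even i ∧ (d - 1 - j) % i = i / 2))) ∨
     (ε = -1 ∧ ((Even i ∧ (d - j) % i = i / 2) ∨ i ∣ d - 1 - j)))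

/-- the type of a fixed-point-free isometry of order `r` on a space of dimension `g` (`i ∣ g`): TYFPF + TYARITH -/
def SCy (i g : ℕ) : ℤ := if Odd i ∨ Even (g / i) then 1 else -1

/-! ## the orthogonal sum `(F^{2h}, v ↦ ⟨v, y v⟩) ⟂ (κ → F, Q₀)` -/

/-- the quadratic form `v ↦ stdB v (y v)` attached to an endomorphism `y` of the standard symplectic space;
its polar form is `(u, v) ↦ stdB u ((y - y⁻¹) v)` when `y` is symplectic -/
noncomputable def qyQ {h : ℕ} (y : Module.End F (Fin h ⊕ Fin h → F)) :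
    QuadraticForm F (Fin h ⊕ Fin h → F) :=
  LinearMap.BilinMap.toQuadraticMap (LinearMap.compl₂ (stdB h F) y)

theorem qyQ_apply {h : ℕ} (y : Module.End F (Fin h ⊕ Fin h → F)) (v : Fin h ⊕ Fin h → F) :
    qyQ y v = stdB h F v (y v) := rfl

/-- the form `qyQ y ⟂ Q₀` on `(Fin h ⊕ Fin h → F) × (κ → F)` -/
noncomputable def qs2Q {h : ℕ} {κ : Type} (y : Module.End F (Fin h ⊕ Fin h → F))
    (Q₀ : QuadraticForm F (κ → F)) : QuadraticForm F ((Fin h ⊕ Fin h → F) × (κ → F)) :=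
  QuadraticMap.prod (qyQ y) Q₀

theorem qs2Q_apply {h : ℕ} {κ : Type} (y : Module.End F (Fin h ⊕ Fin h → F))
    (Q₀ : QuadraticForm F (κ → F)) (u : (Fin h ⊕ Fin h → F) × (κ → F)) :
    qs2Q y Q₀ u = stdB h F u.1 (y u.1) + Q₀ u.2 := rfl

/-- the map `y ⊕ 1` -/
noncomputable def qs2X {h : ℕ} (κ : Type) (y : Module.End F (Fin h ⊕ Fin h → F)) :
    Module.End F ((Fin h ⊕ Fin h → F) × (κ → F)) :=
  LinearMap.prodMap y LinearMap.id

theorem qs2X_apply {h : ℕ} (κ : Type) (y : Module.End F (Fin h ⊕ Fin h → F))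
    (u : (Fin h ⊕ Fin h → F) × (κ → F)) : qs2X κ y u = (y u.1, u.2) := rfl

end Cfsg.Agent.Lib.Helper13.OTS
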